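import Mathlib
import Cfsg.Agent.R24.Defs

/-!
Groups with a 2-local subgroup `2^(3+12).(S5 × L3(2))`: coordinates and stages (see `stubs/Cfsg/Agent/Pn/PLAN.md`).
`N = F4²` has the codes `n < 16`, `U = F2³` the codes `u < 8`, `L/Z = N ⊗ U` the codes `m < 4096` (three nibbles),
`Z = Λ² U` the codes `c < 8`.
-/

set_option autoImplicit false

namespace Cfsg.Agent.Pn

open Cfsg.Agent.Spor Cfsg.Agent.Inv.Fz Subgroup
open Cfsg.Agent.Spor.MB (orN)

/-! ### Codes -/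

/-- The image of `n` under the element of `S5` with code `a`. -/
def aN (a n : ℕ) : ℕ := getP 4 15 a n
/-- Product of codes. -/
def mN (a a' : ℕ) : ℕ := orN (fun n => Nat.shiftLeft (aN a (aN a' n)) (Nat.mul 4 n)) 16
/-- Inverse of a code. -/
def vN (a : ℕ) : ℕ := orN (fun n => Nat.shiftLeft n (Nat.mul 4 (aN a n))) 16
/-- The identity. -/
def iN : ℕ := nat_lit 0xfedcba9876543210
/-- The codes of `S5 = ΣL2(4)`. -/
def LS : List ℕ := [0x186fb2c54d3ae790, 0x195da2e67f3bc480, 0x1a7c92f45e38d6b0, 0x1b4e82d76c39f5a0, 0x1c7ae385492fb6d0,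
  0x1d59f3b76a2e84c0, 0x1e4bc396782da5f0, 0x1f68d3a45b2c97e0, 0x24f9538eca17bd60, 0x25cb43adf8169e70,
  0x26ea73bfd9158c40, 0x27d8639ceb14af50, 0x28d7b14ec6395fa0, 0x29f4a17ce5386db0, 0x2ae6915df73b4c80,
  0x2bc5816fd43a7e90, 0x34ad52cb8f16e970, 0x358e42f9ac17db60, 0x369c72d8be14fa50, 0x37bf62ea9d15c840,
  0x3c96e14b872d5af0, 0x3da4f168b52c79e0, 0x3e85c17a942f6bd0, 0x3fb7d159a62e48c0, 0x429fe83517cabd60,
  0x43dabc25168fe970, 0x4657a8b9dfce3120, 0x4756fced9a8b2130, 0x4ad368f15bc279e0, 0x4b1e3c69d287a5f0,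
  0x4e1b287d93c6f5a0, 0x4f927ca15e836db0, 0x52bcda3416f89e70, 0x53e89f2417acdb60, 0x5647cfdeb8a92130,
  0x57468a9becfd3120, 0x58e37ac149f26bd0, 0x591d3f7be2a684c0, 0x5cb26f814da37e90, 0x5d192a6eb3f7c480,
  0x62aefb3715d98c40, 0x63c98d2714befa50, 0x64759b8acedf3120, 0x6574edfca9b82130, 0x681f3d4ac2b597e0,
  0x69c34be178d25af0, 0x6ea25d917fb34c80, 0x6f182b5ca3d4e790, 0x728dc93614ebaf50, 0x73fbae26159dc840,
  0x7465decf8b9a2130, 0x7564b9a8fdec3120, 0x7a1c3e58f294b6d0, 0x7bf359d16ae248c0, 0x7c1a294f83e5d6b0,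
  0x7d824eb16c935fa0, 0x81f65c2b3a4de790, 0x827de41b39c65fa0, 0x853e1ca7f2496bd0, 0x86f1a4d3b5c297e0,
  0x89badcef76452310, 0x8ab96457fdce1320, 0x8d729c63be41af50, 0x8e35249f71cadb60, 0x91d56e2a3b7fc480,
  0x924fc71a38e56db0, 0x95d1b7f3a6e284c0, 0x963c1eb4d2785af0, 0x98abfecd45762310, 0x9ba85764dfec1320,
  0x9c36278d41ebfa50, 0x9f428e53ac71bd60, 0xa1c74f29385ed6b0, 0xa26ed5193bf74c80, 0xa43d1f86c25b79e0,
  0xa7c185e394f2b6d0, 0xa89b7546cefd1320, 0xab98efdc67542310, 0xad3425bc61f8e970, 0xae62bf739d518c40,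
  0xb1e47d28396cf5a0, 0xb25cf6183ad47e90, 0xb4e196c387d2a5f0, 0xb73f1d95e26a48c0, 0xb98a4675ecdf1320,
  0xba89cdfe54672310, 0xbc52ad438f619e70, 0xbf3726ae51d9c840, 0xc1a7583e2f49b6d0, 0xc369b41e2d875af0,
  0xc52b18f6a34d7e90, 0xc7a1f492e583d6b0, 0xc963d872eb41fa50, 0xcb2534da618f9e70, 0xcdef98ba67453210,
  0xcfed7456a98b1230, 0xd1957b3f2e6a84c0, 0xd34a861f2cb579e0, 0xd591e6a2f7b3c480, 0xd7281be4936c5fa0,
  0xd82736c941beaf50, 0xda43cb52f861e970, 0xdcfeab8945673210, 0xdefc56749ab81230, 0xe1b4693c2d78a5f0,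
  0xe358a71c2f946bd0, 0xe4b1d782c693f5a0, 0xe62a19d5b37f4c80, 0xe853f942ca71db60, 0xea2637fb519d8c40,
  0xedcf4765b89a1230, 0xefcd89ab54763210, 0xf1864a3d2c5b97e0, 0xf37b951d2ea648c0, 0xf4291ac7835e6db0,
  0xf681c5b2d4a3e790, 0xf92435e871acbd60, 0xfb73ea62d951c840, 0xfcde65478ba91230, 0xfedcba9876543210]

/-- Column `i` of the matrix with code `b`. -/
def col (b i : ℕ) : ℕ := getP 3 7 b i
/-- Bit `i`. -/
def bit (u i : ℕ) : ℕ := getP 1 1 u i
/-- The image of `u` under the element of `L3(2)` with code `b`. -/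
def aU (b u : ℕ) : ℕ := bit u 0 * col b 0 ^^^ bit u 1 * col b 1 ^^^ bit u 2 * col b 2
/-- Product of codes. -/
def mU (b b' : ℕ) : ℕ := aU b (col b' 0) + 8 * aU b (col b' 1) + 64 * aU b (col b' 2)
/-- Inverse of a code. -/
def vU (b : ℕ) : ℕ := getP 9 511 (nat_lit 0x3dc5ebf3380000007d40073bb801e2000027556000023d7200006f75e000062f3200003540057a9803a20000001d47aad728000000000000000000000000003bc6e7f5380000000000000000000000ee800006b0053df2005a80166005b80162007e800006f0052fb200ca8032e00c9803220000001f46aed5280000000000000000000000007cc00757b802e200f5800005d0033ef2000000000000000000005727800005f238000077800007d0072eb2000035c0055e9802a200d56e80000cd6280000000000000000000000004ae3a000043e7200998026a009b80262008f4b800009f4380000000000000000000000004be7a000042e32008b8022a008980222009d4a800008d4280000000000000000000000006ef3e00006375200bd800005f00337d200af800007b00735d2000027d76000023552000000000000000000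00ab35bac56000000000b97c9e4720000000000000000000000000000058c006772803c200d18034e00d280342000059c0063f2801c2005380146005280142007359bcc66000000000000000000000000000f1589c46200000000000000000000000000000002b87c76730000000002f85cf63300000ce6f00000d663000005e27000005623000007a7d2e874000000000ea352a854000000000000000000000000000000000000000000000000000000000000000000000000000000000000000000000000000000000000000000000000000000000000000000000000000000000000000000000000000000000000000000000) b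
/-- The identity. -/
def iU : ℕ := nat_lit 273
/-- The codes of `L3(2)`. -/
def LG : List ℕ := [84, 85, 86, 87, 92, 93, 94, 95, 98, 99, 102, 103, 106, 107, 110, 111, 114, 115, 116, 117, 122, 123, 124, 125,
  140, 141, 142, 143, 156, 157, 158, 159, 161, 163, 165, 167, 169, 171, 172, 174, 177, 179, 181, 183, 185, 187,
  188, 190, 204, 205, 206, 207, 212, 213, 214, 215, 225, 226, 229, 230, 233, 234, 236, 239, 241, 242, 244, 247,
  249, 250, 253, 254, 266, 267, 270, 271, 273, 275, 277, 279, 281, 282, 285, 286, 298, 299, 302, 303, 305, 307,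
  309, 311, 313, 314, 317, 318, 330, 331, 334, 335, 337, 339, 340, 342, 345, 346, 348, 351, 354, 355, 358, 359,
  369, 370, 372, 375, 377, 379, 380, 382, 394, 395, 396, 397, 401, 403, 405, 407, 409, 410, 412, 415, 417, 419,
  421, 423, 425, 426, 428, 431, 442, 443, 444, 445, 458, 459, 460, 461, 465, 467, 468, 470, 473, 474, 477, 478,
  481, 482, 485, 486, 489, 491, 492, 494, 498, 499, 500, 501]
/-- The transposed matrix. -/
def trU (b : ℕ) : ℕ := bit b 0 + 8 * bit b 1 + 64 * bit b 2 + 2 * bit b 3 + 16 * bit b 4 + 128 * bit b 5 +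
  4 * bit b 6 + 32 * bit b 7 + 256 * bit b 8
/-- The inverse transpose automorphism. -/
def tU (b : ℕ) : ℕ := trU (vU b)
/-- The code has order seven. -/
def o7 (b : ℕ) : Prop := b ≠ iU ∧ mU (mU b (mU b b)) (mU (mU b b) (mU b b)) = iU
/-- The code has order three. -/
def o3 (a : ℕ) : Prop := a ≠ iN ∧ mN a (mN a a) = iN
instance (b : ℕ) : Decidable (o7 b) := inferInstanceAs (Decidable (_ ∧ _))
instance (a : ℕ) : Decidable (o3 a) := inferInstanceAs (Decidable (_ ∧ _))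

/-- `u ∧ v` in the basis `e0 ∧ e1`, `e0 ∧ e2`, `e1 ∧ e2`. -/
def wg (u v : ℕ) : ℕ := (bit u 0 * bit v 1 ^^^ bit u 1 * bit v 0) + 2 * (bit u 0 * bit v 2 ^^^ bit u 2 * bit v 0) +
  4 * (bit u 1 * bit v 2 ^^^ bit u 2 * bit v 1)
/-- The action on `Z`. -/
def aZ (b c : ℕ) : ℕ := bit c 0 * wg (col b 0) (col b 1) ^^^ bit c 1 * wg (col b 0) (col b 2) ^^^
  bit c 2 * wg (col b 1) (col b 2)
/-- `n * sp u` is the code of `n ⊗ u`. -/
def sp (u : ℕ) : ℕ := bit u 0 + 16 * bit u 1 + 256 * bit u 2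
/-- The component at `e i`. -/
def nb (m i : ℕ) : ℕ := getP 4 15 m i
/-- The action on `L/Z`. -/
def aM (a b m : ℕ) : ℕ := aN a (nb m 0) * sp (col b 0) ^^^ aN a (nb m 1) * sp (col b 1) ^^^ aN a (nb m 2) * sp (col b 2)
/-- The symplectic form on `N`. -/
def bt (n n' : ℕ) : ℕ :=
  getP 1 1 (nat_lit 0x5a5aa55a55aaaaaa96966996996666663c3cc33c33ccccccf0f00ff0ff000000) (16 * n + n')
/-- The commutator map. -/
def cM (m k : ℕ) : ℕ := (bt (nb m 0) (nb k 1) ^^^ bt (nb m 1) (nb k 0)) +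
  2 * (bt (nb m 0) (nb k 2) ^^^ bt (nb m 2) (nb k 0)) + 4 * (bt (nb m 1) (nb k 2) ^^^ bt (nb m 2) (nb k 1))
/-- The squaring map. -/
def qM (m : ℕ) : ℕ := bt (nb m 0) (nb m 1) + 2 * bt (nb m 0) (nb m 2) + 4 * bt (nb m 1) (nb m 2)
/-- An element of order three that fixes the lines `{1,2,3}` and `{4,8,12}`. -/
def x0 : ℕ := nat_lit 0x6574edfca9b82130
/-- The Klein four-group that fixes `1, 2, 3`. -/
def E4 : List ℕ := [iN, 0xcdef98ba67453210, 0xdcfeab8945673210, 0xefcd89ab54763210]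
/-- The Klein four-group that fixes `e0` and `e1`. -/
def E2 : List ℕ := [273, 337, 401, 465]

/-! ### Modules -/

/-- Commuting actions of `S5` and `L3(2)`, given on codes. -/
structure Act (M : Type*) [CommGroup M] where
  α : ℕ → M →* M
  β : ℕ → M →* M
  sq : ∀ m : M, m * m = 1
  α_mul : ∀ a ∈ LS, ∀ a' ∈ LS, ∀ m, α (mN a a') m = α a (α a' m)
  α_one : ∀ m, α iN m = m
  β_mul : ∀ b ∈ LG, ∀ b' ∈ LG, ∀ m, β (mU b b') m = β b (β b' m)
  β_one : ∀ m, β iU m = m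
  comm : ∀ a ∈ LS, ∀ b ∈ LG, ∀ m, α a (β b m) = β b (α a m)
  y7 : ∀ b ∈ LG, o7 b → ∀ m, β b m = m → m = 1

/-- Coordinates for `N ⊗ U`. -/
structure Act.Co {M : Type*} [CommGroup M] (P : Act M) (Φ : ℕ → M) : Prop where
  xor : ∀ m < 4096, ∀ k < 4096, Φ (m ^^^ k) = Φ m * Φ k
  inj : ∀ m < 4096, Φ m = 1 → m = 0
  surj : ∀ g, ∃ m < 4096, Φ m = g
  act : ∀ a ∈ LS, ∀ b ∈ LG, ∀ m < 4096, P.α a (P.β b (Φ m)) = Φ (aM a b m)

/-- Commutator and squaring map. -/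
structure Cq {M Z : Type*} [CommGroup M] [CommGroup Z] (P : Act M) (R : Act Z) (c : M → M → Z) (q : M → Z) : Prop where
  left : ∀ m m' k, c (m * m') k = c m k * c m' k
  right : ∀ m k k', c m (k * k') = c m k * c m k'
  self : ∀ m, c m m = 1
  q_mul : ∀ m k, q (m * k) = q m * q k * c m k
  cα : ∀ a ∈ LS, ∀ m k, c (P.α a m) (P.α a k) = R.α a (c m k)
  cβ : ∀ b ∈ LG, ∀ m k, c (P.β b m) (P.β b k) = R.β b (c m k)
  qβ : ∀ b ∈ LG, ∀ m, q (P.β b m) = R.β b (q m)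
  ne : ∃ m k, c m k ≠ 1

/-! ### The frame -/

/-- The normaliser of `Z` with coordinates. -/
structure Fk (G : Type*) [Group G] where
  Z : Subgroup G
  L : Subgroup G
  z : ℕ → G
  l : ℕ → G
  A : G → ℕ
  B : G → ℕ
  z_xor : ∀ a < 8, ∀ b < 8, z (a ^^^ b) = z a * z b
  z_inj : ∀ a < 8, z a = 1 → a = 0
  memZ : ∀ g, g ∈ Z ↔ ∃ c < 8, z c = g
  memL : ∀ g, g ∈ L ↔ ∃ m < 4096, ∃ c < 8, g = l m * z c
  l_xor : ∀ a < 4096, ∀ b < 4096, ∃ c < 8, l a * l b = l (a ^^^ b) * z c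
  l_inj : ∀ m < 4096, l m ∈ Z → m = 0
  zc : ∀ m < 4096, ∀ c < 8, l m * z c = z c * l m
  comm : ∀ a < 4096, ∀ b < 4096, l a * l b * (l a)⁻¹ * (l b)⁻¹ = z (cM a b)
  sq : ∀ a < 4096, l a * l a = z (qM a)
  L_le : L ≤ normalizer (Z : Set G)
  A_mem : ∀ g ∈ normalizer (Z : Set G), A g ∈ LS
  B_mem : ∀ g ∈ normalizer (Z : Set G), B g ∈ LG
  A_mul : ∀ g ∈ normalizer (Z : Set G), ∀ h ∈ normalizer (Z : Set G), A (g * h) = mN (A g) (A h)
  B_mul : ∀ g ∈ normalizer (Z : Set G), ∀ h ∈ normalizer (Z : Set G), B (g * h) = mU (B g) (B h)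
  ker : ∀ g ∈ normalizer (Z : Set G), g ∈ L ↔ A g = iN ∧ B g = iU
  surj : ∀ a ∈ LS, ∀ b ∈ LG, ∃ g ∈ normalizer (Z : Set G), A g = a ∧ B g = b
  act_l : ∀ g ∈ normalizer (Z : Set G), ∀ m < 4096, ∃ c < 8, g * l m * g⁻¹ = l (aM (A g) (B g) m) * z c
  act_z : ∀ g ∈ normalizer (Z : Set G), ∀ c < 8, g * z c * g⁻¹ = z (aZ (B g) c)

namespace Fk

variable {G : Type*} [Group G] (F : Fk G)

/-- The normaliser of `Z`. -/
abbrev K : Subgroup G := normalizer (F.Z : Set G)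
/-- `g` lies in `K` and has the image `(a, b)` in `S5 × L3(2)`. -/
def Ic (g : G) (a b : ℕ) : Prop := g ∈ F.K ∧ F.A g = a ∧ F.B g = b
/-- `g` lies in `L` and has the code `m` modulo `Z`. -/
def Lc (g : G) (m : ℕ) : Prop := m < 4096 ∧ ∃ c < 8, g = F.l m * F.z c
/-- The elements of `L` whose code satisfies `m &&& k = 0`. -/
def sub (k : ℕ) : Subgroup G := closure {g | ∃ m, F.Lc g m ∧ m &&& k = 0}
/-- The central involution `e0 ∧ e1`. -/
def s : G := F.z 1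
/-- Its centraliser. -/
abbrev H : Subgroup G := centralizer {F.s}
/-- The four-group `e0 ∧ U`. -/
def F2 : Subgroup G := closure {F.z 1, F.z 2}
/-- The preimage of `N ⊗ ⟨e0, e1⟩`. -/
def L1 : Subgroup G := F.sub 0xF00
/-- The preimage of `N ⊗ e0`. -/
def E7 : Subgroup G := F.sub 0xFF0
/-- The preimage of `⟨1, 2⟩ ⊗ U`. -/
def V0 : Subgroup G := F.sub 0xCCC
/-- The preimage of `⟨1, 2⟩ ⊗ ⟨e0, e1⟩`. -/
def W : Subgroup G := F.sub 0xFCC
/-- The elementary abelian group of order `2 ^ 11`. -/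
def V : Subgroup G := centralizer (F.V0 : Set G)
/-- Its normaliser. -/
abbrev N : Subgroup G := normalizer (F.V : Set G)
/-- A Sylow 2-subgroup: `A g` fixes `1`, `B g` fixes `e0` and `e0 ∧ e1`. -/
def T : Subgroup G := F.K ⊓ F.H ⊓ normalizer (F.sub 0xFFE : Set G)
/-- The centraliser of `s` in the normaliser of `V`. -/
def Y : Subgroup G := F.H ⊓ F.N

/-- The extraspecial group. -/
structure Qx (Q : Subgroup G) : Prop where
  es : ES2 Q F.s
  card : Nat.card Q = 2 ^ 13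
  norm : F.H ≤ normalizer (Q : Set G)
  max : ∀ P ≤ F.H, IsPGroup 2 P → F.H ≤ normalizer (P : Set G) → P ≤ Q
  inf : Q ⊓ F.L = F.L1
  ic : ∀ q ∈ Q, ∃ b ∈ E2, F.Ic q iN b
  lift : ∀ b ∈ E2, ∃ q ∈ Q, F.Ic q iN b

/-- The case in which `Y` does not normalise `Z`. -/
structure Big : Prop where
  card : Nat.card F.Y = 2 ^ 21 * 135
  trans : ∀ v ∈ F.V, v ∉ F.W → ∃ y ∈ F.Y, y * v * y⁻¹ ∈ F.V0
  r1 : ∃ n ∈ F.N, F.Lc (n * F.s * n⁻¹) 1
  r2 : ∃ n ∈ F.N, F.Lc (n * F.s * n⁻¹) 0x21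

end Fk

end Cfsg.Agent.Pn
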