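import Mathlib
import Cfsg.Agent.Pn.Defs
import Cfsg.Agent.R24.Bas

/-! Arithmetic of the codes. -/

set_option autoImplicit false

namespace Cfsg.Agent.Pn

open Cfsg.Agent.Spor
open Cfsg.Agent.Spor.MB (addN addN_eq_sum)

theorem feq {α : Type} (n : ℕ) (k : ℕ → α) : Spor.force n k = k n := (Spor.force_eq n k).trans rfl
theorem xor16 {a b : ℕ} (ha : a < 16) (hb : b < 16) : a ^^^ b < 16 := Nat.xor_lt_two_pow (n := 4) ha hb
theorem xor8 {a b : ℕ} (ha : a < 8) (hb : b < 8) : a ^^^ b < 8 := Nat.xor_lt_two_pow (n := 3) ha hb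
theorem xor4096 {a b : ℕ} (ha : a < 4096) (hb : b < 4096) : a ^^^ b < 4096 := Nat.xor_lt_two_pow (n := 12) ha hb
theorem eq_of_xor {a b : ℕ} (h : a ^^^ b = 0) : a = b := Nat.xor_eq_zero_iff.1 h

/-- Membership in a list, for kernel checks. -/
noncomputable def inL (l : List ℕ) (a : ℕ) : Bool := Spor.force a fun a => MB.anyL (fun b => Nat.beq a b) l
theorem inL_iff {l : List ℕ} {a : ℕ} : inL l a = true ↔ a ∈ l := by
  simp only [inL, feq, MB.anyL_iff, nbeq_iff, exists_eq_right']

theorem aN_lt (a n : ℕ) : aN a n < 16 := Nat.lt_succ_of_le Nat.and_le_right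
theorem nb_lt (m i : ℕ) : nb m i < 16 := Nat.lt_succ_of_le Nat.and_le_right
theorem col_lt (b i : ℕ) : col b i < 8 := Nat.lt_succ_of_le Nat.and_le_right
theorem bit_lt (u i : ℕ) : bit u i < 2 := Nat.lt_succ_of_le Nat.and_le_right
theorem bt_lt (n n' : ℕ) : bt n n' < 2 := Nat.lt_succ_of_le Nat.and_le_right
theorem iN_mem : iN ∈ LS := by decide +kernel
theorem iU_mem : iU ∈ LG := by decide +kernel
theorem x0_mem : x0 ∈ LS := by decide +kernel
theorem x0_o3 : o3 x0 := by decide +kernel
theorem E4_sub : ∀ a ∈ E4, a ∈ LS := by decide +kernel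
theorem E2_sub : ∀ b ∈ E2, b ∈ LG := by decide +kernel
theorem len_LS : LS.length = 120 := by decide +kernel
theorem len_LG : LG.length = 168 := by decide +kernel
theorem nodup_LS : LS.Nodup := by decide +kernel
theorem nodup_LG : LG.Nodup := by decide +kernel
theorem LG_lt : ∀ b ∈ LG, b < 512 := by decide +kernel

theorem mN_spec {a a' : ℕ} (ha : a ∈ LS) (ha' : a' ∈ LS) :
    mN a a' ∈ LS ∧ ∀ n < 16, aN (mN a a') n = aN a (aN a' n) := by
  have h : allL LS (fun a => allL LS fun a' => Spor.force (mN a a') fun c => band (inL LS c)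
      (allLt 16 fun n => Nat.beq (aN c n) (aN a (aN a' n)))) = true := by decide +kernel
  simpa only [feq, band_iff, inL_iff, allLt_iff, nbeq_iff] using
    (allL_iff _ _).1 ((allL_iff _ _).1 h a ha) a' ha'
theorem mN_mem {a a' : ℕ} (ha : a ∈ LS) (ha' : a' ∈ LS) : mN a a' ∈ LS := (mN_spec ha ha').1
theorem aN_mN {a a' n : ℕ} (ha : a ∈ LS) (ha' : a' ∈ LS) (hn : n < 16) : aN (mN a a') n = aN a (aN a' n) :=
  (mN_spec ha ha').2 n hn
theorem vN_spec : ∀ a ∈ LS, vN a ∈ LS ∧ mN a (vN a) = iN ∧ mN (vN a) a = iN ∧ mN a iN = a ∧ mN iN a = a ∧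
    vN (vN a) = a := by decide +kernel
theorem vN_mem {a : ℕ} (ha : a ∈ LS) : vN a ∈ LS := (vN_spec a ha).1
theorem aN_iN : ∀ n < 16, aN iN n = n := by decide +kernel
theorem aN_zero : ∀ a ∈ LS, aN a 0 = 0 := by decide +kernel
theorem aN_xor : ∀ a ∈ LS, ∀ n < 16, ∀ n' < 16, aN a (n ^^^ n') = aN a n ^^^ aN a n' := by decide +kernel
theorem bt_aN : ∀ a ∈ LS, ∀ n < 16, ∀ n' < 16, bt (aN a n) (aN a n') = bt n n' := by decide +kernel
theorem ext_N : ∀ a ∈ LS, ∀ a' ∈ LS, aN a 1 = aN a' 1 → aN a 2 = aN a' 2 → aN a 4 = aN a' 4 → aN a 8 = aN a' 8 →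
    a = a' := by decide +kernel
theorem mN_assoc {a b c : ℕ} (ha : a ∈ LS) (hb : b ∈ LS) (hc : c ∈ LS) : mN (mN a b) c = mN a (mN b c) := by
  have k : ∀ n < 16, aN (mN (mN a b) c) n = aN (mN a (mN b c)) n := fun n hn => by
    rw [aN_mN (mN_mem ha hb) hc hn, aN_mN ha hb (aN_lt _ _), aN_mN ha (mN_mem hb hc) hn, aN_mN hb hc hn]
  exact ext_N _ (mN_mem (mN_mem ha hb) hc) _ (mN_mem ha (mN_mem hb hc)) (k 1 (by decide)) (k 2 (by decide))
    (k 4 (by decide)) (k 8 (by decide))
theorem bt_xor : ∀ a < 16, ∀ b < 16, ∀ c < 16, bt (a ^^^ b) c = bt a c ^^^ bt b c := by decide +kernel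
theorem bt_symm : ∀ a < 16, ∀ b < 16, bt a b = bt b a := by decide +kernel
theorem bt_self : ∀ a < 16, bt a a = 0 := by decide +kernel
theorem trans_N : ∀ n < 16, n ≠ 0 → ∃ a ∈ LS, aN a 1 = n := by decide +kernel

theorem aU_lt : ∀ b ∈ LG, ∀ u < 8, aU b u < 8 := by decide +kernel
theorem mU_spec {b b' : ℕ} (hb : b ∈ LG) (hb' : b' ∈ LG) : mU b b' ∈ LG ∧ tU (mU b b') = mU (tU b) (tU b') ∧
    ∀ u < 8, aU (mU b b') u = aU b (aU b' u) ∧ aZ (mU b b') u = aZ b (aZ b' u) := by
  have h : allL LG (fun a => allL LG fun a' => Spor.force (mU a a') fun c => band (inL LG c)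
      (band (Nat.beq (tU c) (mU (tU a) (tU a'))) (allLt 8 fun n => band (Nat.beq (aU c n) (aU a (aU a' n)))
        (Nat.beq (aZ c n) (aZ a (aZ a' n)))))) = true := by decide +kernel
  simpa only [feq, band_iff, inL_iff, allLt_iff, nbeq_iff] using
    (allL_iff _ _).1 ((allL_iff _ _).1 h b hb) b' hb'
theorem mU_mem {b b' : ℕ} (hb : b ∈ LG) (hb' : b' ∈ LG) : mU b b' ∈ LG := (mU_spec hb hb').1
theorem vU_spec : ∀ b ∈ LG, vU b ∈ LG ∧ mU b (vU b) = iU ∧ mU (vU b) b = iU ∧ mU b iU = b ∧ mU iU b = b ∧
    vU (vU b) = b := by decide +kernel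
theorem vU_mem {b : ℕ} (hb : b ∈ LG) : vU b ∈ LG := (vU_spec b hb).1
theorem tU_spec : ∀ b ∈ LG, tU b ∈ LG ∧ tU (tU b) = b ∧ (o7 b → o7 (tU b)) := by decide +kernel
theorem tU_iU : tU iU = iU := by decide +kernel
theorem aU_xor : ∀ b ∈ LG, ∀ u < 8, ∀ v < 8, aU b (u ^^^ v) = aU b u ^^^ aU b v := by decide +kernel
theorem aU_iU : ∀ u < 8, aU iU u = u := by decide +kernel
theorem ext_U : ∀ b ∈ LG, ∀ b' ∈ LG, aU b 1 = aU b' 1 → aU b 2 = aU b' 2 → aU b 4 = aU b' 4 → b = b' := by
  decide +kernel
theorem mU_assoc {a b c : ℕ} (ha : a ∈ LG) (hb : b ∈ LG) (hc : c ∈ LG) : mU (mU a b) c = mU a (mU b c) := by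
  have k : ∀ n < 8, aU (mU (mU a b) c) n = aU (mU a (mU b c)) n := fun n hn => by
    rw [((mU_spec (mU_mem ha hb) hc).2.2 n hn).1, ((mU_spec ha hb).2.2 _ (aU_lt _ hc _ hn)).1,
      ((mU_spec ha (mU_mem hb hc)).2.2 n hn).1, ((mU_spec hb hc).2.2 n hn).1]
  exact ext_U _ (mU_mem (mU_mem ha hb) hc) _ (mU_mem ha (mU_mem hb hc)) (k 1 (by decide)) (k 2 (by decide))
    (k 4 (by decide))
theorem aZ_lt : ∀ b ∈ LG, ∀ c < 8, aZ b c < 8 := by decide +kernel
theorem aZ_xor : ∀ b ∈ LG, ∀ u < 8, ∀ v < 8, aZ b (u ^^^ v) = aZ b u ^^^ aZ b v := by decide +kernel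
theorem aZ_iU : ∀ u < 8, aZ iU u = u := by decide +kernel
theorem aZ_wg : ∀ b ∈ LG, ∀ u < 8, ∀ v < 8, aZ b (wg u v) = wg (aU b u) (aU b v) := by decide +kernel
theorem eq_iU_of_aZ : ∀ b ∈ LG, aZ b 1 = 1 → aZ b 2 = 2 → aZ b 4 = 4 → b = iU := by decide +kernel
theorem trans_Z : ∀ c < 8, c ≠ 0 → ∃ b ∈ LG, aZ b 1 = c := by decide +kernel

theorem nb_xor (m k i : ℕ) : nb (m ^^^ k) i = nb m i ^^^ nb k i := by
  simp only [nb, getP, Nat.shiftRight_eq, Nat.land_eq, Nat.shiftRight_xor_distrib, Nat.and_xor_distrib_right]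
/-- A kernel check over all codes. -/
theorem all4096 {P : ℕ → Prop} [DecidablePred P] (h : allRange 0 4096 (fun m => decide (P m)) = true) :
    ∀ m < 4096, P m := fun m hm => of_decide_eq_true (allRange_zero h m hm)
theorem nb_eq : ∀ m < 4096, m = nb m 0 * 1 ^^^ nb m 1 * 16 ^^^ nb m 2 * 256 := all4096 (by decide +kernel)
theorem ext_M {m k : ℕ} (hm : m < 4096) (hk : k < 4096) (h0 : nb m 0 = nb k 0) (h1 : nb m 1 = nb k 1)
    (h2 : nb m 2 = nb k 2) : m = k := by rw [nb_eq m hm, nb_eq k hk, h0, h1, h2]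
theorem sp_lt : ∀ u < 8, ∀ n < 16, n * sp u < 4096 := by decide +kernel
theorem sp_xor : ∀ u < 8, ∀ n < 16, ∀ n' < 16, (n ^^^ n') * sp u = n * sp u ^^^ n' * sp u := by decide +kernel
theorem nb_sp : ∀ u < 8, ∀ n < 16, ∀ i < 3, nb (n * sp u) i = bit u i * n := by decide +kernel
theorem aM_lt (a b m : ℕ) : aM a b m < 4096 := xor4096 (xor4096 (sp_lt _ (col_lt _ _) _ (aN_lt _ _))
  (sp_lt _ (col_lt _ _) _ (aN_lt _ _))) (sp_lt _ (col_lt _ _) _ (aN_lt _ _))
theorem aM_xor {a : ℕ} (ha : a ∈ LS) (b m k : ℕ) : aM a b (m ^^^ k) = aM a b m ^^^ aM a b k := by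
  simp only [aM, nb_xor, aN_xor a ha _ (nb_lt _ _) _ (nb_lt _ _), sp_xor _ (col_lt _ _) _ (aN_lt _ _) _ (aN_lt _ _)]
  ac_rfl
theorem aM_zero {a : ℕ} (ha : a ∈ LS) (b : ℕ) : aM a b 0 = 0 := by simpa using aM_xor ha b 0 0
theorem aM_id : ∀ m < 4096, aM iN iU m = m := all4096 (by decide +kernel)
theorem aM_sp {a b n u : ℕ} (ha : a ∈ LS) (hb : b ∈ LG) (hn : n < 16) (hu : u < 8) :
    aM a b (n * sp u) = aN a n * sp (aU b u) := by
  have h : ∀ b ∈ LG, ∀ u < 8, ∀ n < 16, bit u 0 * n * sp (col b 0) ^^^ bit u 1 * n * sp (col b 1) ^^^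
      bit u 2 * n * sp (col b 2) = n * sp (aU b u) := by decide +kernel
  have k : ∀ i, aN a (bit u i * n) = bit u i * aN a n := fun i => by
    have := bit_lt u i
    rcases (by omega : bit u i = 0 ∨ bit u i = 1) with e | e <;> simp [e, aN_zero a ha]
  rw [aM, nb_sp u hu n hn 0 (by decide), nb_sp u hu n hn 1 (by decide), nb_sp u hu n hn 2 (by decide), k, k, k,
    h b hb u hu _ (aN_lt _ _)]
theorem nb_aM {a b m i : ℕ} (hi : i < 3) : nb (aM a b m) i = bit (col b 0) i * aN a (nb m 0) ^^^
    bit (col b 1) i * aN a (nb m 1) ^^^ bit (col b 2) i * aN a (nb m 2) := by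
  simp only [aM, nb_xor, nb_sp _ (col_lt _ _) _ (aN_lt _ _) i hi]

theorem comb_lt {a b c : ℕ} (ha : a < 2) (hb : b < 2) (hc : c < 2) : a + 2 * b + 4 * c < 8 := by omega
theorem xor2 {a b : ℕ} (ha : a < 2) (hb : b < 2) : a ^^^ b < 2 := Nat.xor_lt_two_pow (n := 1) ha hb
theorem cM_lt (m k : ℕ) : cM m k < 8 :=
  comb_lt (xor2 (bt_lt _ _) (bt_lt _ _)) (xor2 (bt_lt _ _) (bt_lt _ _)) (xor2 (bt_lt _ _) (bt_lt _ _))
theorem qM_lt (m : ℕ) : qM m < 8 := comb_lt (bt_lt _ _) (bt_lt _ _) (bt_lt _ _)
theorem comb_xor : ∀ a < 2, ∀ b < 2, ∀ c < 2, ∀ a' < 2, ∀ b' < 2, ∀ c' < 2,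
    (a ^^^ a') + 2 * (b ^^^ b') + 4 * (c ^^^ c') = (a + 2 * b + 4 * c) ^^^ (a' + 2 * b' + 4 * c') := by decide
theorem cM_symm (m k : ℕ) : cM m k = cM k m := by
  simp only [cM, bt_symm _ (nb_lt m _) _ (nb_lt k _), Nat.xor_comm]
theorem cM_xor (m m' k : ℕ) : cM (m ^^^ m') k = cM m k ^^^ cM m' k := by
  simp only [cM, nb_xor, bt_xor _ (nb_lt _ _) _ (nb_lt _ _) _ (nb_lt _ _)]
  rw [← comb_xor _ (xor2 (bt_lt _ _) (bt_lt _ _)) _ (xor2 (bt_lt _ _) (bt_lt _ _)) _ (xor2 (bt_lt _ _) (bt_lt _ _))
    _ (xor2 (bt_lt _ _) (bt_lt _ _)) _ (xor2 (bt_lt _ _) (bt_lt _ _)) _ (xor2 (bt_lt _ _) (bt_lt _ _))]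
  congr 1
  · congr 1
    · ac_rfl
    · congr 1; ac_rfl
  · congr 1; ac_rfl
theorem cM_xor' (m k k' : ℕ) : cM m (k ^^^ k') = cM m k ^^^ cM m k' := by
  rw [cM_symm, cM_xor, cM_symm k, cM_symm k']

/-- A non-trivial normal subgroup of `S5` contains `x0` and `E4`. -/
theorem normal_S5 {P : ℕ → Prop} (hm : ∀ a ∈ LS, ∀ a' ∈ LS, P a → P a' → P (mN a a'))
    (hc : ∀ g ∈ LS, ∀ a ∈ LS, P a → P (mN (mN g a) (vN g))) {a : ℕ} (ha : a ∈ LS) (h1 : a ≠ iN) (h : P a) :
    P x0 ∧ ∀ e ∈ E4, e ≠ iN → P e := by
  have k : ∀ t < 4, ∀ i < 120, LS.getD i 0 = iN ∨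
      mN (mN (mN (LS.getD (getP 14 127 (nat_lit 0x8901010890204040020406007a6c7005c6c5841210680161171c4266f1a2c4050062604841a00b901a01e1a3460c981c0068012107001210d181210c981a00584767c700020038002002000e0000008000003e6c68056685841a01d1e1c00700b060484646911b2c405802e407002c404801612d9c466911a2e406801211c181c0068036686801c0151808102800c002040c102800c003041610484121068052607007e752981c005841a00e995261f1c1c006802c40b904262d1d40605841c004003e71c99121058458647001a0058400004881000488102080010206047a688805c689002200a842400f9c4061e1a1e2090042604801a107082401e1b44617982e10a842200b842200d9922015182a1090076709000a102800a103000a002040c002043868a8436689002a11d1d2e108807060400446919a1e209001c206041e208801401d9c446d59a1c207842201c192400a845a68a842e1151900002000e0000004002000e00100240088022009003260b847e78f182e109002200f183261f1f2e10a841e207085261d1d42645801c108805e71c9822009005860b842200900000008008000800000808000020036689883c68a8c2c303000a0179c546af3c0c0098852603000a002802420d9a3c694980c009080a009882c312180c01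4980a00a8c3e70988142030014202800c004080a004084e689085a682800c00f1d2620988b0e028056694180c009080a003000c009880a02dbb5a7191a0a003000c00c98262090856682802620e1818303000a0060c1a303000a0068c2a302802c3090854603003c7539a0a0030024212185e60f9c26209080c002806262d3a58743000a009085c70c982c30a8c38602802420300000088160a4800220282020058a818003843e0478018082840c10782548088322018022400e015200b81160038204082032800b811604a002a08f801e106012010a001e0c78508000800a041800000201040028000002010e0418002002000e001002408f0022051a228019832405581260190134088005a889832e0560312003032800b810a08b8128001831808284081068018003840c106821a008041c086841c009851a08d801400a0006040810c002810a00301280080120089814280c035c098801a0c7012a08a003a007042010385) (120 * t + i)) iN) (LS.getD i 0))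
        (vN (LS.getD (getP 14 127 (nat_lit 0x8901010890204040020406007a6c7005c6c5841210680161171c4266f1a2c4050062604841a00b901a01e1a3460c981c0068012107001210d181210c981a00584767c700020038002002000e0000008000003e6c68056685841a01d1e1c00700b060484646911b2c405802e407002c404801612d9c466911a2e406801211c181c0068036686801c0151808102800c002040c102800c003041610484121068052607007e752981c005841a00e995261f1c1c006802c40b904262d1d40605841c004003e71c99121058458647001a0058400004881000488102080010206047a688805c689002200a842400f9c4061e1a1e2090042604801a107082401e1b44617982e10a842200b842200d9922015182a1090076709000a102800a103000a002040c002043868a8436689002a11d1d2e108807060400446919a1e209001c206041e208801401d9c446d59a1c207842201c192400a845a68a842e1151900002000e0000004002000e00100240088022009003260b847e78f182e109002200f183261f1f2e10a841e207085261d1d42645801c108805e71c9822009005860b842200900000008008000800000808000020036689883c68a8c2c303000a0179c546af3c0c0098852603000a002802420d9a3c694980c009080a009882c312180c014980a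00a8c3e70988142030014202800c004080a004084e689085a682800c00f1d2620988b0e028056694180c009080a003000c009880a02dbb5a7191a0a003000c00c98262090856682802620e1818303000a0060c1a303000a0068c2a302802c3090854603003c7539a0a0030024212185e60f9c26209080c002806262d3a58743000a009085c70c982c30a8c38602802420300000088160a4800220282020058a818003843e0478018082840c10782548088322018022400e015200b81160038204082032800b811604a002a08f801e106012010a001e0c78508000800a041800000201040028000002010e0418002002000e001002408f0022051a228019832405581260190134088005a889832e0560312003032800b810a08b8128001831808284081068018003840c106821a008041c086841c009851a08d801400a0006040810c002810a00301280080120089814280c035c098801a0c7012a08a003a007042010385) (120 * t + i)) iN)))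
      (mN (mN (LS.getD (getP 14 16383 (nat_lit 0x8901010890204040020406007a6c7005c6c5841210680161171c4266f1a2c4050062604841a00b901a01e1a3460c981c0068012107001210d181210c981a00584767c700020038002002000e0000008000003e6c68056685841a01d1e1c00700b060484646911b2c405802e407002c404801612d9c466911a2e406801211c181c0068036686801c0151808102800c002040c102800c003041610484121068052607007e752981c005841a00e995261f1c1c006802c40b904262d1d40605841c004003e71c99121058458647001a0058400004881000488102080010206047a688805c689002200a842400f9c4061e1a1e2090042604801a107082401e1b44617982e10a842200b842200d9922015182a1090076709000a102800a103000a002040c002043868a8436689002a11d1d2e108807060400446919a1e209001c206041e208801401d9c446d59a1c207842201c192400a845a68a842e1151900002000e0000004002000e00100240088022009003260b847e78f182e109002200f183261f1f2e10a841e207085261d1d42645801c108805e71c9822009005860b842200900000008008000800000808000020036689883c68a8c2c303000a0179c546af3c0c0098852603000a002802420d9a3c694980c009080a009882c312180c014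980a00a8c3e70988142030014202800c004080a004084e689085a682800c00f1d2620988b0e028056694180c009080a003000c009880a02dbb5a7191a0a003000c00c98262090856682802620e1818303000a0060c1a303000a0068c2a302802c3090854603003c7539a0a0030024212185e60f9c26209080c002806262d3a58743000a009085c70c982c30a8c38602802420300000088160a4800220282020058a818003843e0478018082840c10782548088322018022400e015200b81160038204082032800b811604a002a08f801e106012010a001e0c78508000800a041800000201040028000002010e0418002002000e001002408f0022051a228019832405581260190134088005a889832e0560312003032800b810a08b8128001831808284081068018003840c106821a008041c086841c009851a08d801400a0006040810c002810a00301280080120089814280c035c098801a0c7012a08a003a007042010385) (120 * t + i) / 128) iN) (LS.getD i 0))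
        (vN (LS.getD (getP 14 16383 (nat_lit 0x8901010890204040020406007a6c7005c6c5841210680161171c4266f1a2c4050062604841a00b901a01e1a3460c981c0068012107001210d181210c981a00584767c700020038002002000e0000008000003e6c68056685841a01d1e1c00700b060484646911b2c405802e407002c404801612d9c466911a2e406801211c181c0068036686801c0151808102800c002040c102800c003041610484121068052607007e752981c005841a00e995261f1c1c006802c40b904262d1d40605841c004003e71c99121058458647001a0058400004881000488102080010206047a688805c689002200a842400f9c4061e1a1e2090042604801a107082401e1b44617982e10a842200b842200d9922015182a1090076709000a102800a103000a002040c002043868a8436689002a11d1d2e108807060400446919a1e209001c206041e208801401d9c446d59a1c207842201c192400a845a68a842e1151900002000e0000004002000e00100240088022009003260b847e78f182e109002200f183261f1f2e10a841e207085261d1d42645801c108805e71c9822009005860b842200900000008008000800000808000020036689883c68a8c2c303000a0179c546af3c0c0098852603000a002802420d9a3c694980c009080a009882c312180c01498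0a00a8c3e70988142030014202800c004080a004084e689085a682800c00f1d2620988b0e028056694180c009080a003000c009880a02dbb5a7191a0a003000c00c98262090856682802620e1818303000a0060c1a303000a0068c2a302802c3090854603003c7539a0a0030024212185e60f9c26209080c002806262d3a58743000a009085c70c982c30a8c38602802420300000088160a4800220282020058a818003843e0478018082840c10782548088322018022400e015200b81160038204082032800b811604a002a08f801e106012010a001e0c78508000800a041800000201040028000002010e0418002002000e001002408f0022051a228019832405581260190134088005a889832e0560312003032800b810a08b8128001831808284081068018003840c106821a008041c086841c009851a08d801400a0006040810c002810a00301280080120089814280c035c098801a0c7012a08a003a007042010385) (120 * t + i) / 128) iN))) =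
      (x0 :: E4.tail).getD t 0 := by decide +kernel
  have m : ∀ j, LS.getD j iN ∈ LS := fun j => by
    rw [List.getD_eq_getElem?_getD]
    cases e : LS[j]? with
    | none => exact iN_mem
    | some x => exact List.mem_of_getElem? e
  obtain ⟨i, hi, rfl⟩ := List.getElem_of_mem ha
  have e : LS.getD i 0 = LS[i] := List.getD_eq_getElem _ _ hi
  have k' : ∀ t < 4, P ((x0 :: E4.tail).getD t 0) := fun t ht => by
    rw [← (k t ht i (len_LS ▸ hi)).resolve_left (e ▸ h1), e]
    exact hm _ (mN_mem (mN_mem (m _) ha) (vN_mem (m _))) _ (mN_mem (mN_mem (m _) ha) (vN_mem (m _)))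
      (hc _ (m _) _ ha h) (hc _ (m _) _ ha h)
  refine ⟨k' 0 (by decide), fun e he h0 => ?_⟩
  simp only [E4, List.mem_cons, List.not_mem_nil, or_false] at he
  rcases he with rfl | rfl | rfl | rfl
  exacts [absurd rfl h0, k' 1 (by decide), k' 2 (by decide), k' 3 (by decide)]

/-- The number of `m < 4096` that pass the test. -/
def cnt (q : ℕ → Bool) : ℕ := addN (fun i => addN (fun j => Bool.rec 0 1 (q (Nat.add (Nat.mul 64 i) j))) 64) 64

theorem ncard_lt (P : ℕ → Prop) (q : ℕ → Bool) (h : ∀ a < 4096, P a ↔ q a = true) :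
    {a | a < 4096 ∧ P a}.ncard = cnt q := by
  have h1 : {a | a < 4096 ∧ P a} = ↑((Finset.range (64 * 64)).filter fun a => q a = true) := by
    ext a; simp only [Set.mem_ofPred_eq, Finset.coe_filter, Finset.mem_range]; exact and_congr_right (h a)
  have h2 : ∀ (f : ℕ → ℕ) (n : ℕ), ∑ a ∈ Finset.range (n * 64), f a =
      ∑ i ∈ Finset.range n, ∑ j ∈ Finset.range 64, f (i * 64 + j) := fun f n => by
    induction n with
    | zero => simp
    | succ n ih => rw [add_mul, one_mul, Finset.sum_range_add, ih, Finset.sum_range_succ _ n]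
  rw [h1, Set.ncard_coe_finset, Finset.card_filter, h2, cnt, addN_eq_sum]
  refine Finset.sum_congr rfl fun i _ => ?_
  rw [addN_eq_sum]
  refine Finset.sum_congr rfl fun j _ => ?_
  simp only [Nat.add_eq, Nat.mul_eq, mul_comm i]
  cases q (64 * i + j) <;> rfl

/-- The twisted action. -/
def Act.tw {M : Type*} [CommGroup M] (P : Act M) : Act M where
  α := P.α
  β b := P.β (tU b)
  sq := P.sq
  α_mul := P.α_mul
  α_one := P.α_one
  β_mul b hb b' hb' m := by rw [(mU_spec hb hb').2.1, P.β_mul _ (tU_spec b hb).1 _ (tU_spec b' hb').1]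
  β_one m := by rw [tU_iU, P.β_one]
  comm a ha b hb := P.comm a ha _ (tU_spec b hb).1
  y7 b hb h := P.y7 _ (tU_spec b hb).1 ((tU_spec b hb).2.2 h)

end Cfsg.Agent.Pn
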